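import Cfsg.Agent.Lib.CosetEnum.Y5Chain0.Data

/-! Generated certificate. -/

set_option autoImplicit false
set_option maxRecDepth 20000

namespace Cfsg.Lib.CosetEnum.Y5Chain0

theorem closed_6 : closedOK tabF tabZ tabP 142708 28160 11 [0, 1, 2, 3, 6, 7, 8, 9, 10] 4000 24000 = true := by decide +kernel

theorem closed_7 : closedOK tabF tabZ tabP 142708 28160 11 [0, 1, 2, 3, 6, 7, 8, 9, 10] 160 28000 = true := by decide +kernel

end Cfsg.Lib.CosetEnum.Y5Chain0
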