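import Cfsg.Agent.Lib.CosetEnum.Y5Chain0.DefsPart0
import Cfsg.Agent.Lib.CosetEnum.Y5Chain0.DefsPart1
import Cfsg.Agent.Lib.CosetEnum.Y5Chain0.StepsPart0
import Cfsg.Agent.Lib.CosetEnum.Y5Chain0.StepsPart1
import Cfsg.Agent.Lib.CosetEnum.Y5Chain0.StepsPart2
import Cfsg.Agent.Lib.CosetEnum.Y5Chain0.StepsPart3
import Cfsg.Agent.Lib.CosetEnum.Y5Chain0.StepsPart4
import Cfsg.Agent.Lib.CosetEnum.Y5Chain0.StepsPart5
import Cfsg.Agent.Lib.CosetEnum.Y5Chain0.StepsPart6
import Cfsg.Agent.Lib.CosetEnum.Y5Chain0.StepsPart7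
import Cfsg.Agent.Lib.CosetEnum.Y5Chain0.StepsPart8
import Cfsg.Agent.Lib.CosetEnum.Y5Chain0.StepsPart9
import Cfsg.Agent.Lib.CosetEnum.Y5Chain0.StepsPart10
import Cfsg.Agent.Lib.CosetEnum.Y5Chain0.StepsPart11
import Cfsg.Agent.Lib.CosetEnum.Y5Chain0.StepsPart12
import Cfsg.Agent.Lib.CosetEnum.Y5Chain0.StepsPart13
import Cfsg.Agent.Lib.CosetEnum.Y5Chain0.StepsPart14
import Cfsg.Agent.Lib.CosetEnum.Y5Chain0.StepsPart15
import Cfsg.Agent.Lib.CosetEnum.Y5Chain0.StepsPart16
import Cfsg.Agent.Lib.CosetEnum.Y5Chain0.StepsPart17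
import Cfsg.Agent.Lib.CosetEnum.Y5Chain0.StepsPart18
import Cfsg.Agent.Lib.CosetEnum.Y5Chain0.StepsPart19
import Cfsg.Agent.Lib.CosetEnum.Y5Chain0.StepsPart20
import Cfsg.Agent.Lib.CosetEnum.Y5Chain0.StepsPart21
import Cfsg.Agent.Lib.CosetEnum.Y5Chain0.StepsPart22
import Cfsg.Agent.Lib.CosetEnum.Y5Chain0.StepsPart23
import Cfsg.Agent.Lib.CosetEnum.Y5Chain0.StepsPart24
import Cfsg.Agent.Lib.CosetEnum.Y5Chain0.StepsPart25
import Cfsg.Agent.Lib.CosetEnum.Y5Chain0.StepsPart26
import Cfsg.Agent.Lib.CosetEnum.Y5Chain0.StepsPart27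
import Cfsg.Agent.Lib.CosetEnum.Y5Chain0.StepsPart28
import Cfsg.Agent.Lib.CosetEnum.Y5Chain0.StepsPart29
import Cfsg.Agent.Lib.CosetEnum.Y5Chain0.StepsPart30
import Cfsg.Agent.Lib.CosetEnum.Y5Chain0.StepsPart31
import Cfsg.Agent.Lib.CosetEnum.Y5Chain0.StepsPart32
import Cfsg.Agent.Lib.CosetEnum.Y5Chain0.StepsPart33
import Cfsg.Agent.Lib.CosetEnum.Y5Chain0.StepsPart34
import Cfsg.Agent.Lib.CosetEnum.Y5Chain0.StepsPart35
import Cfsg.Agent.Lib.CosetEnum.Y5Chain0.StepsPart36
import Cfsg.Agent.Lib.CosetEnum.Y5Chain0.StepsPart37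
import Cfsg.Agent.Lib.CosetEnum.Y5Chain0.ClosedPart0
import Cfsg.Agent.Lib.CosetEnum.Y5Chain0.ClosedPart1
import Cfsg.Agent.Lib.CosetEnum.Y5Chain0.ClosedPart2

/-! Generated certificate. -/

set_option autoImplicit false
set_option maxRecDepth 20000

namespace Cfsg.Lib.CosetEnum.Y5Chain0

theorem step_valid {R0 : List (List Nat)} (h : shiftsOK R0 relWords = true) : step.Valid R0 where
  pos := by decide +kernel
  shifts := h
  defs := (defsOK_append (a := 16000) (b := 14040) (defsOK_append (a := 8000) (b := 8000) (defsOK_append (a := 4000) (b := 4000) defs_0 defs_1) (defsOK_append (a := 4000) (b := 4000) defs_2 defs_3)) (defsOK_append (a := 8000) (b := 6040) (defsOK_append (a := 4000) (b := 4000) defs_4 defs_5) (defsOK_append (a := 4000) (b := 2040) defs_6 defs_7)))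
  steps := (stepsOK_append (m := 57000) (n := 55668) (stepsOK_append (m := 28500) (n := 28500) (stepsOK_append (m := 13500) (n := 15000) (stepsOK_append (m := 6000) (n := 7500) (stepsOK_append (m := 3000) (n := 3000) (stepsOK_append (m := 1500) (n := 1500) steps_0 steps_1) (stepsOK_append (m := 1500) (n := 1500) steps_2 steps_3)) (stepsOK_append (m := 3000) (n := 4500) (stepsOK_append (m := 1500) (n := 1500) steps_4 steps_5) (stepsOK_append (m := 1500) (n := 3000) steps_6 (stepsOK_append (m := 1500) (n := 1500) steps_7 steps_8)))) (stepsOK_append (m := 7500) (n := 7500) (stepsOK_append (m := 3000) (n := 4500) (stepsOK_append (m := 1500) (n := 1500) steps_9 steps_10) (stepsOK_append (m := 1500) (n := 3000) steps_11 (stepsOK_append (m := 1500) (n := 1500) steps_12 steps_13))) (stepsOK_append (m := 3000) (n := 4500) (stepsOK_append (m := 1500) (n := 1500) steps_14 steps_15) (stepsOK_append (m := 1500) (n := 3000) steps_16 (stepsOK_append (m := 1500) (n := 1500) steps_17 steps_18))))) (stepsOK_append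 (m := 13500) (n := 15000) (stepsOK_append (m := 6000) (n := 7500) (stepsOK_append (m := 3000) (n := 3000) (stepsOK_append (m := 1500) (n := 1500) steps_19 steps_20) (stepsOK_append (m := 1500) (n := 1500) steps_21 steps_22)) (stepsOK_append (m := 3000) (n := 4500) (stepsOK_append (m := 1500) (n := 1500) steps_23 steps_24) (stepsOK_append (m := 1500) (n := 3000) steps_25 (stepsOK_append (m := 1500) (n := 1500) steps_26 steps_27)))) (stepsOK_append (m := 7500) (n := 7500) (stepsOK_append (m := 3000) (n := 4500) (stepsOK_append (m := 1500) (n := 1500) steps_28 steps_29) (stepsOK_append (m := 1500) (n := 3000) steps_30 (stepsOK_append (m := 1500) (n := 1500) steps_31 steps_32))) (stepsOK_append (m := 3000) (n := 4500) (stepsOK_append (m := 1500) (n := 1500) steps_33 steps_34) (stepsOK_append (m := 1500) (n := 3000) steps_35 (stepsOK_append (m := 1500) (n := 1500) steps_36 steps_37)))))) (stepsOK_append (m := 28500) (n := 27168) (stepsOK_append (m := 13500) (n := 15000) (stepsOK_append (m := 6000) (n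 := 7500) (stepsOK_append (m := 3000) (n := 3000) (stepsOK_append (m := 1500) (n := 1500) steps_38 steps_39) (stepsOK_append (m := 1500) (n := 1500) steps_40 steps_41)) (stepsOK_append (m := 3000) (n := 4500) (stepsOK_append (m := 1500) (n := 1500) steps_42 steps_43) (stepsOK_append (m := 1500) (n := 3000) steps_44 (stepsOK_append (m := 1500) (n := 1500) steps_45 steps_46)))) (stepsOK_append (m := 7500) (n := 7500) (stepsOK_append (m := 3000) (n := 4500) (stepsOK_append (m := 1500) (n := 1500) steps_47 steps_48) (stepsOK_append (m := 1500) (n := 3000) steps_49 (stepsOK_append (m := 1500) (n := 1500) steps_50 steps_51))) (stepsOK_append (m := 3000) (n := 4500) (stepsOK_append (m := 1500) (n := 1500) steps_52 steps_53) (stepsOK_append (m := 1500) (n := 3000) steps_54 (stepsOK_append (m := 1500) (n := 1500) steps_55 steps_56))))) (stepsOK_append (m := 13500) (n := 13668) (stepsOK_append (m := 6000) (n := 7500) (stepsOK_append (m := 3000) (n := 3000) (stepsOK_append (m := 1500) (n := 1500) steps_57 steps_58)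 (stepsOK_append (m := 1500) (n := 1500) steps_59 steps_60)) (stepsOK_append (m := 3000) (n := 4500) (stepsOK_append (m := 1500) (n := 1500) steps_61 steps_62) (stepsOK_append (m := 1500) (n := 3000) steps_63 (stepsOK_append (m := 1500) (n := 1500) steps_64 steps_65)))) (stepsOK_append (m := 7500) (n := 6168) (stepsOK_append (m := 3000) (n := 4500) (stepsOK_append (m := 1500) (n := 1500) steps_66 steps_67) (stepsOK_append (m := 1500) (n := 3000) steps_68 (stepsOK_append (m := 1500) (n := 1500) steps_69 steps_70))) (stepsOK_append (m := 3000) (n := 3168) (stepsOK_append (m := 1500) (n := 1500) steps_71 steps_72) (stepsOK_append (m := 1500) (n := 1668) steps_73 (stepsOK_append (m := 1500) (n := 168) steps_74 steps_75)))))))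
  closed := (closedOK_append (a := 16000) (b := 12160) (closedOK_append (a := 8000) (b := 8000) (closedOK_append (a := 4000) (b := 4000) closed_0 closed_1) (closedOK_append (a := 4000) (b := 4000) closed_2 closed_3)) (closedOK_append (a := 8000) (b := 4160) (closedOK_append (a := 4000) (b := 4000) closed_4 closed_5) (closedOK_append (a := 4000) (b := 160) closed_6 closed_7)))

end Cfsg.Lib.CosetEnum.Y5Chain0
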