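import Cfsg.Agent.Lib.CosetEnum.Defs

/-! Generated table data. -/

set_option autoImplicit false
set_option maxRecDepth 20000

namespace Cfsg.Lib.CosetEnum.Y5Chain0

/-- Table data. -/
def tabC_55_0 : Tab :=
  (.node 14 (.node 7 (.node 3 (.node 1 (.leaf 0x101b3b006d6908b55c0000201aec00000a) (.node 1 (.leaf 0x101aec806c8608b5580000201a7740000d) (.leaf 0x102c8c00b26a08b5640000201aecc0000b))) (.node 2 (.node 1 (.leaf 0x102696c09a6c08b5680000201b3b80000a) (.leaf 0x101b16c22bc508b54c0000201ab600000e)) (.node 1 (.leaf 0x102d0300b8a208b5700000201b1700000b) (.leaf 0x10270a409f9008b5740000201b5500000a)))) (.node 3 (.node 1 (.leaf 0x106749022bb408b5700000201b1700000d) (.node 1 (.leaf 0x102d05c0b42608b57c0000201b3c80000b) (.leaf 0x10270a809c2d08b5800000201b6ac0000a))) (.node 2 (.node 1 (.leaf 0x10712b41c13708b5400000201a2d400010) (.leaf 0x102bfd80b04408b5880000201ab480000b)) (.node 1 (.leaf 0x101b54006d9808b58c0000201b1540000a) (.leaf 0x101b15c06cd508b5880000201ab480000d)))))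 (.node 7 (.node 3 (.node 1 (.leaf 0x102c9700b27f08b5940000201b1600000b) (.node 1 (.leaf 0x10269a009a7308b5980000201b5480000a) (.leaf 0x10654081d98708b5880000201ab480000e))) (.node 2 (.node 1 (.leaf 0x102c1480b06708b5a00000201aeb80000b) (.leaf 0x101b69806dd508b5a40000201b3a80000a)) (.node 1 (.leaf 0x101b3ac2243908b5a00000201aeb80000d) (.leaf 0x102e2380b28908b5ac0000201afd00000b)))) (.node 3 (.node 1 (.leaf 0x1027e2009a7608b5b00000201b4700000a) (.node 1 (.leaf 0x10766d022d6b08b3f40000001af740000e) (.leaf 0x102e22c0b89908b5b80000201af740000b))) (.node 2 (.node 1 (.leaf 0x1027e1c09f8d08b5bc0000201b43c0000a) (.leaf 0x10359b00d67208b5b80000201af740000d)) (.node 1 (.leaf 0x102e2a80b8ac08b5c40000201b44c0000b) (.leaf 0x1027e5009f9508b5c80000201b6f40000a))))))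

/-- Table data. -/
def tabC_55 : Tab :=
  tabC_55_0

end Cfsg.Lib.CosetEnum.Y5Chain0
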