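import Cfsg.Agent.Lib.CosetEnum.Y5Chain0.TabF_Data0
import Cfsg.Agent.Lib.CosetEnum.Y5Chain0.TabF_Data1
import Cfsg.Agent.Lib.CosetEnum.Y5Chain0.TabC_Data0
import Cfsg.Agent.Lib.CosetEnum.Y5Chain0.TabC_Data1
import Cfsg.Agent.Lib.CosetEnum.Y5Chain0.TabC_Data2
import Cfsg.Agent.Lib.CosetEnum.Y5Chain0.TabC_Data3
import Cfsg.Agent.Lib.CosetEnum.Y5Chain0.TabC_Data4
import Cfsg.Agent.Lib.CosetEnum.Y5Chain0.TabC_Data5
import Cfsg.Agent.Lib.CosetEnum.Y5Chain0.TabC_Data6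
import Cfsg.Agent.Lib.CosetEnum.Y5Chain0.TabC_Data7
import Cfsg.Agent.Lib.CosetEnum.Y5Chain0.TabC_Data8
import Cfsg.Agent.Lib.CosetEnum.Y5Chain0.TabC_Data9
import Cfsg.Agent.Lib.CosetEnum.Y5Chain0.TabC_Data10
import Cfsg.Agent.Lib.CosetEnum.Y5Chain0.TabC_Data11
import Cfsg.Agent.Lib.CosetEnum.Y5Chain0.TabC_Data12
import Cfsg.Agent.Lib.CosetEnum.Y5Chain0.TabC_Data13
import Cfsg.Agent.Lib.CosetEnum.Y5Chain0.TabC_Data14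
import Cfsg.Agent.Lib.CosetEnum.Y5Chain0.TabC_Data15
import Cfsg.Agent.Lib.CosetEnum.Y5Chain0.TabC_Data16
import Cfsg.Agent.Lib.CosetEnum.Y5Chain0.TabC_Data17
import Cfsg.Agent.Lib.CosetEnum.Y5Chain0.TabC_Data18
import Cfsg.Agent.Lib.CosetEnum.Y5Chain0.TabC_Data19
import Cfsg.Agent.Lib.CosetEnum.Y5Chain0.TabC_Data20
import Cfsg.Agent.Lib.CosetEnum.Y5Chain0.TabC_Data21
import Cfsg.Agent.Lib.CosetEnum.Y5Chain0.TabC_Data22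
import Cfsg.Agent.Lib.CosetEnum.Y5Chain0.TabC_Data23
import Cfsg.Agent.Lib.CosetEnum.Y5Chain0.TabC_Data24
import Cfsg.Agent.Lib.CosetEnum.Y5Chain0.TabC_Data25
import Cfsg.Agent.Lib.CosetEnum.Y5Chain0.TabC_Data26
import Cfsg.Agent.Lib.CosetEnum.Y5Chain0.TabC_Data27
import Cfsg.Agent.Lib.CosetEnum.Y5Chain0.TabC_Data28
import Cfsg.Agent.Lib.CosetEnum.Y5Chain0.TabC_Data29
import Cfsg.Agent.Lib.CosetEnum.Y5Chain0.TabC_Data30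
import Cfsg.Agent.Lib.CosetEnum.Y5Chain0.TabC_Data31
import Cfsg.Agent.Lib.CosetEnum.Y5Chain0.TabC_Data32
import Cfsg.Agent.Lib.CosetEnum.Y5Chain0.TabC_Data33
import Cfsg.Agent.Lib.CosetEnum.Y5Chain0.TabC_Data34
import Cfsg.Agent.Lib.CosetEnum.Y5Chain0.TabC_Data35
import Cfsg.Agent.Lib.CosetEnum.Y5Chain0.TabC_Data36
import Cfsg.Agent.Lib.CosetEnum.Y5Chain0.TabC_Data37
import Cfsg.Agent.Lib.CosetEnum.Y5Chain0.TabC_Data38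
import Cfsg.Agent.Lib.CosetEnum.Y5Chain0.TabC_Data39
import Cfsg.Agent.Lib.CosetEnum.Y5Chain0.TabC_Data40
import Cfsg.Agent.Lib.CosetEnum.Y5Chain0.TabC_Data41
import Cfsg.Agent.Lib.CosetEnum.Y5Chain0.TabC_Data42
import Cfsg.Agent.Lib.CosetEnum.Y5Chain0.TabC_Data43
import Cfsg.Agent.Lib.CosetEnum.Y5Chain0.TabC_Data44
import Cfsg.Agent.Lib.CosetEnum.Y5Chain0.TabC_Data45
import Cfsg.Agent.Lib.CosetEnum.Y5Chain0.TabC_Data46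
import Cfsg.Agent.Lib.CosetEnum.Y5Chain0.TabC_Data47
import Cfsg.Agent.Lib.CosetEnum.Y5Chain0.TabC_Data48
import Cfsg.Agent.Lib.CosetEnum.Y5Chain0.TabC_Data49
import Cfsg.Agent.Lib.CosetEnum.Y5Chain0.TabC_Data50
import Cfsg.Agent.Lib.CosetEnum.Y5Chain0.TabC_Data51
import Cfsg.Agent.Lib.CosetEnum.Y5Chain0.TabC_Data52
import Cfsg.Agent.Lib.CosetEnum.Y5Chain0.TabC_Data53
import Cfsg.Agent.Lib.CosetEnum.Y5Chain0.TabC_Data54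
import Cfsg.Agent.Lib.CosetEnum.Y5Chain0.TabC_Data55
import Cfsg.Agent.Lib.CosetEnum.Y5Chain0.TabZ_Data0
import Cfsg.Agent.Lib.CosetEnum.Y5Chain0.TabZ_Data1
import Cfsg.Agent.Lib.CosetEnum.Y5Chain0.TabZ_Data2
import Cfsg.Agent.Lib.CosetEnum.Y5Chain0.TabP_Data0
import Cfsg.Agent.Lib.CosetEnum.Y5Chain0.TabP_Data1
import Cfsg.Agent.Lib.CosetEnum.Y5Chain0.TabP_Data2

/-! Generated certificate. -/

set_option autoImplicit false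
set_option maxRecDepth 20000

namespace Cfsg.Lib.CosetEnum.Y5Chain0

/-- Table. -/
def tabF : Tab :=
  (.node 2048 tabF_0 tabF_1)

/-- Table. -/
def tabC : Tab :=
  (.node 57344 (.node 28672 (.node 14336 (.node 6144 (.node 2048 tabC_0 (.node 2048 tabC_1 tabC_2)) (.node 4096 (.node 2048 tabC_3 tabC_4) (.node 2048 tabC_5 tabC_6))) (.node 6144 (.node 2048 tabC_7 (.node 2048 tabC_8 tabC_9)) (.node 4096 (.node 2048 tabC_10 tabC_11) (.node 2048 tabC_12 tabC_13)))) (.node 14336 (.node 6144 (.node 2048 tabC_14 (.node 2048 tabC_15 tabC_16)) (.node 4096 (.node 2048 tabC_17 tabC_18) (.node 2048 tabC_19 tabC_20))) (.node 6144 (.node 2048 tabC_21 (.node 2048 tabC_22 tabC_23)) (.node 4096 (.node 2048 tabC_24 tabC_25) (.node 2048 tabC_26 tabC_27))))) (.node 28672 (.node 14336 (.node 6144 (.node 2048 tabC_28 (.node 2048 tabC_29 tabC_30)) (.node 4096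 (.node 2048 tabC_31 tabC_32) (.node 2048 tabC_33 tabC_34))) (.node 6144 (.node 2048 tabC_35 (.node 2048 tabC_36 tabC_37)) (.node 4096 (.node 2048 tabC_38 tabC_39) (.node 2048 tabC_40 tabC_41)))) (.node 14336 (.node 6144 (.node 2048 tabC_42 (.node 2048 tabC_43 tabC_44)) (.node 4096 (.node 2048 tabC_45 tabC_46) (.node 2048 tabC_47 tabC_48))) (.node 6144 (.node 2048 tabC_49 (.node 2048 tabC_50 tabC_51)) (.node 4096 (.node 2048 tabC_52 tabC_53) (.node 2048 tabC_54 tabC_55))))))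

/-- Table. -/
def tabZ : Tab :=
  (.node 2048 tabZ_0 (.node 2048 tabZ_1 tabZ_2))

/-- Table. -/
def tabP : Tab :=
  (.node 2048 tabP_0 (.node 2048 tabP_1 tabP_2))

/-- The shifts in use. -/
def relWords : List (List Nat) :=
  [[0, 0],
    [1, 1],
    [2, 2],
    [3, 3],
    [6, 6],
    [7, 7],
    [8, 8],
    [9, 9],
    [10, 10],
    [0, 1, 0, 1, 0, 1],
    [0, 2, 0, 2],
    [0, 3, 0, 3],
    [0, 6, 0, 6, 0, 6],
    [0, 7, 0, 7],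
    [0, 8, 0, 8],
    [0, 9, 0, 9, 0, 9],
    [0, 10, 0, 10],
    [1, 2, 1, 2, 1, 2],
    [1, 3, 1, 3],
    [1, 6, 1, 6],
    [1, 7, 1, 7],
    [1, 8, 1, 8],
    [1, 9, 1, 9],
    [1, 10, 1, 10],
    [2, 3, 2, 3, 2, 3],
    [2, 6, 2, 6],
    [2, 7, 2, 7],
    [2, 8, 2, 8],
    [2, 9, 2, 9],
    [2, 10, 2, 10],
    [3, 6, 3, 6],
    [3, 7, 3, 7],
    [3, 8, 3, 8],
    [3, 9, 3, 9],
    [3, 10, 3, 10],
    [6, 7, 6, 7, 6, 7],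
    [6, 8, 6, 8],
    [6, 9, 6, 9],
    [6, 10, 6, 10],
    [7, 8, 7, 8, 7, 8],
    [7, 9, 7, 9],
    [7, 10, 7, 10],
    [8, 9, 8, 9],
    [8, 10, 8, 10],
    [9, 10, 9, 10, 9, 10],
    [0, 6, 7, 0, 1, 2, 0, 9, 10, 0, 6, 7, 0, 1, 2, 0, 9, 10, 0, 6, 7, 0, 1, 2, 0, 9, 10, 0, 6, 7, 0, 1, 2, 0, 9, 10, 0, 6, 7, 0, 1, 2, 0, 9, 10, 0, 6, 7, 0, 1, 2, 0, 9, 10, 0, 6, 7, 0, 1, 2, 0, 9, 10, 0, 6, 7, 0, 1, 2, 0, 9, 10, 0, 6, 7, 0, 1, 2, 0, 9, 10, 0, 6, 7, 0, 1, 2, 0, 9, 10],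
    [9, 7, 9, 7],
    [10, 7, 10, 7],
    [6, 1, 6, 1],
    [6, 2, 6, 2],
    [1, 0, 1, 0, 1, 0],
    [9, 6, 9, 6],
    [6, 0, 6, 0, 6, 0],
    [2, 0, 2, 0],
    [2, 1, 2, 1, 2, 1],
    [8, 0, 8, 0],
    [8, 1, 8, 1],
    [10, 0, 10, 0],
    [10, 1, 10, 1],
    [10, 2, 10, 2],
    [10, 9, 10, 9, 10, 9],
    [9, 0, 9, 0, 9, 0],
    [9, 1, 9, 1],
    [9, 2, 9, 2],
    [7, 1, 7, 1],
    [7, 2, 7, 2],
    [7, 0, 7, 0],
    [7, 6, 7, 6, 7, 6],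
    [10, 6, 10, 6],
    [8, 6, 8, 6],
    [7, 3, 7, 3],
    [9, 8, 9, 8],
    [10, 8, 10, 8],
    [8, 2, 8, 2],
    [10, 3, 10, 3]]

/-- Subgroup words. -/
def subWords : List (List Nat) :=
  [[0],
    [1],
    [2],
    [3],
    [6],
    [7],
    [9],
    [10]]

/-- The certificate. -/
def step : StepCert :=
  ⟨relWords, subWords, [0, 1, 2, 3, 6, 7, 8, 9, 10], tabF, tabC, tabZ, tabP, 30040, 112668, 28160, 11⟩

end Cfsg.Lib.CosetEnum.Y5Chain0
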